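/-
Rank two p-groups, p ≥ 5: the torus of SL₂(p) acting on a section of order p².
-/
import Cfsg.Agent.BG2.P4c

set_option autoImplicit false
set_option linter.unusedSectionVars false

namespace CF.FusB
open Subgroup CF.BG CF.BG2
open scoped commutatorElement

section torus
variable {G : Type*} [Group G] {p : ℕ}

theorem zpow_eq_of_dvd {e : G} (he : e ^ p = 1) {a b : ℤ} (h : (p : ℤ) ∣ a - b) :
    e ^ a = e ^ b := by
  obtain ⟨c, hc⟩ := h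
  have : a = b + p * c := by linarith
  rw [this, zpow_add, zpow_mul, zpow_natCast, he, one_zpow, mul_one]

theorem dvd_of_zpow_eq (hp : p.Prime) {e : G} (he : e ^ p = 1) (h1 : e ≠ 1) {a b : ℤ}
    (h : e ^ a = e ^ b) : (p : ℤ) ∣ a - b := by
  rw [← orderOf_eq_of_pow hp he h1, orderOf_dvd_iff_zpow_eq_one, zpow_sub, h, mul_inv_cancel]

theorem conj_pair {e f g : G} (hc : Commute e f) {x : ℤ} (h1 : g * e * g⁻¹ = e)
    (h2 : g * f * g⁻¹ = e ^ x * f) (i j : ℤ) :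
    g * (e ^ i * f ^ j) * g⁻¹ = e ^ (i + x * j) * f ^ j := by
  have : g * (e ^ i * f ^ j) * g⁻¹ = (g * e * g⁻¹) ^ i * (g * f * g⁻¹) ^ j := by
    rw [conj_zpow, conj_zpow]; group
  rw [this, h1, h2, (hc.zpow_left x).mul_zpow, ← zpow_mul, zpow_add, mul_assoc]

theorem conj_pair' {e f g : G} (hc : Commute e f) {y : ℤ} (h1 : g * f * g⁻¹ = f)
    (h2 : g * e * g⁻¹ = f ^ y * e) (i j : ℤ) :
    g * (e ^ i * f ^ j) * g⁻¹ = e ^ i * f ^ (j + y * i) := by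
  rw [(hc.zpow_zpow i j).eq, conj_pair hc.symm h1 h2, (hc.zpow_zpow _ _).eq]

theorem exists_unip (hp : p.Prime) {e f u : G} (hc : Commute e f) (he : e ^ p = 1) {a : ℤ}
    (h1 : u * e * u⁻¹ = e) (h2 : u * f * u⁻¹ = e ^ a * f) (ha : ¬ (p : ℤ) ∣ a) (x : ℤ) :
    ∃ n : ℕ, u ^ n * e * (u ^ n)⁻¹ = e ∧ u ^ n * f * (u ^ n)⁻¹ = e ^ x * f := by
  have key : ∀ n : ℕ, u ^ n * e * (u ^ n)⁻¹ = e ∧ u ^ n * f * (u ^ n)⁻¹ = e ^ (n * a) * f := by
    intro n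
    induction n with
    | zero => simp
    | succ n ih =>
      have e1 : ∀ w : G, u ^ (n + 1) * w * (u ^ (n + 1))⁻¹ = u * (u ^ n * w * (u ^ n)⁻¹) * u⁻¹ := by
        intro w; rw [pow_succ']; group
      refine ⟨by rw [e1, ih.1, h1], ?_⟩
      have := conj_pair hc h1 h2 (n * a) 1
      rw [zpow_one] at this
      rw [e1, ih.2, this]
      congr 2; push_cast; ring
  haveI := Fact.mk hp
  have ha' : (a : ZMod p) ≠ 0 := fun h => ha ((ZMod.intCast_zmod_eq_zero_iff_dvd a p).1 h)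
  refine ⟨((x : ZMod p) * (a : ZMod p)⁻¹).val, (key _).1, ?_⟩
  rw [(key _).2]
  congr 1
  apply zpow_eq_of_dvd he
  rw [← ZMod.intCast_zmod_eq_zero_iff_dvd]
  push_cast
  rw [ZMod.natCast_zmod_val]
  field_simp
  ring

theorem torus {e f : G} (hc : Commute e f) (he : e ^ p = 1) (hf : f ^ p = 1) (H : Subgroup G)
    (hU : ∀ x : ℤ, ∃ U ∈ H, U * e * U⁻¹ = e ∧ U * f * U⁻¹ = e ^ x * f)
    (hV : ∀ y : ℤ, ∃ V ∈ H, V * f * V⁻¹ = f ∧ V * e * V⁻¹ = f ^ y * e)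
    {l l' : ℤ} (hl : (p : ℤ) ∣ l * l' - 1) :
    ∃ h ∈ H, h * e * h⁻¹ = e ^ l ∧ h * f * h⁻¹ = f ^ l' := by
  obtain ⟨U1, m1, a1, b1⟩ := hU l
  obtain ⟨U2, m2, a2, b2⟩ := hU (-1)
  obtain ⟨V1, m3, a3, b3⟩ := hV (-l')
  obtain ⟨V2, m4, a4, b4⟩ := hV 1
  have key : ∀ w : G, U1 * V1 * U1 * U2 * V2 * U2 * w * (U1 * V1 * U1 * U2 * V2 * U2)⁻¹ =
      U1 * (V1 * (U1 * (U2 * (V2 * (U2 * w * U2⁻¹) * V2⁻¹) * U2⁻¹) * U1⁻¹) * V1⁻¹) * U1⁻¹ := by
    intro w; group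
  obtain ⟨c, hc'⟩ := hl
  refine ⟨U1 * V1 * U1 * U2 * V2 * U2,
    mul_mem (mul_mem (mul_mem (mul_mem (mul_mem m1 m3) m1) m2) m4) m2, ?_, ?_⟩
  · have e0 : e = e ^ (1 : ℤ) * f ^ (0 : ℤ) := by simp
    rw [key]
    conv_lhs => rw [e0]
    rw [conj_pair hc a2 b2, conj_pair' hc a4 b4, conj_pair hc a2 b2, conj_pair hc a1 b1,
      conj_pair' hc a3 b3, conj_pair hc a1 b1]
    rw [zpow_eq_of_dvd he (b := l) ⟨-(l * c), by linear_combination (-l) * hc'⟩,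
      zpow_eq_of_dvd hf (b := 0) ⟨-c, by linear_combination (-1) * hc'⟩]
    simp
  · have e0 : f = e ^ (0 : ℤ) * f ^ (1 : ℤ) := by simp
    rw [key]
    conv_lhs => rw [e0]
    rw [conj_pair hc a2 b2, conj_pair' hc a4 b4, conj_pair hc a2 b2, conj_pair hc a1 b1,
      conj_pair' hc a3 b3, conj_pair hc a1 b1]
    rw [zpow_eq_of_dvd he (b := 0) ⟨c, by linear_combination hc'⟩,
      zpow_eq_of_dvd hf (b := l') ⟨0, by ring⟩]
    simp

theorem conj_pow_act {h e : G} {l : ℤ} (hh : h * e * h⁻¹ = e ^ l) (n : ℕ) :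
    h ^ n * e * (h ^ n)⁻¹ = e ^ l ^ n := by
  induction n with
  | zero => simp
  | succ n ih =>
    have e1 : h ^ (n + 1) * e * (h ^ (n + 1))⁻¹ = h * (h ^ n * e * (h ^ n)⁻¹) * h⁻¹ := by
      rw [pow_succ']; group
    rw [e1, ih, ← conj_zpow, hh, ← zpow_mul, pow_succ']

theorem conj_pow_act_p (hp : p.Prime) {h e : G} (he : e ^ p = 1) {l : ℤ}
    (hh : h * e * h⁻¹ = e ^ l) (k : ℕ) : h ^ p ^ k * e * (h ^ p ^ k)⁻¹ = e ^ l := by
  rw [conj_pow_act hh]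
  apply zpow_eq_of_dvd he
  haveI := Fact.mk hp
  rw [← ZMod.intCast_zmod_eq_zero_iff_dvd]
  push_cast
  rw [ZMod.pow_card_pow, sub_self]

theorem exists_pow_pi' [Finite G] (hp : p.Prime) (h : G) : ∃ k : ℕ, PiElt {p}ᶜ (h ^ p ^ k) := by
  obtain ⟨k, m, hm, e⟩ := Nat.exists_eq_pow_mul_and_not_dvd (orderOf_pos h).ne' p hp.ne_one
  refine ⟨k, PiNat.dvd ((piNat_compl_single hp).2 hm) (orderOf_dvd_of_pow_eq_one ?_)⟩
  rw [← pow_mul, ← e, pow_orderOf_eq_one]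

/-- a primitive root: `l * l' ≡ 1`, `l ^ m ≡ -1`, `l ^ 2 ≢ 1` -/
theorem exists_prim (hp : p.Prime) (h5 : 5 ≤ p) : ∃ (l l' : ℤ) (m : ℕ), (p : ℤ) ∣ l * l' - 1 ∧
    (p : ℤ) ∣ l ^ m - (-1) ∧ (p : ℤ) ∣ l' ^ m - (-1) ∧ ¬ (p : ℤ) ∣ l ^ 2 - 1 := by
  haveI := Fact.mk hp
  obtain ⟨g, hg⟩ := IsCyclic.exists_generator (α := (ZMod p)ˣ)
  have ho : orderOf g = p - 1 := by
    rw [orderOf_eq_card_of_forall_mem_zpowers hg, Nat.card_eq_fintype_card, ZMod.card_units]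
  obtain ⟨m, hm⟩ := (mem_powers_iff_mem_zpowers.2 (hg (-1)))
  have hm' : g ^ m = -1 := hm
  refine ⟨((g : ZMod p).val : ℤ), (((g⁻¹ : (ZMod p)ˣ) : ZMod p).val : ℤ), m, ?_, ?_, ?_, ?_⟩
  all_goals rw [← ZMod.intCast_zmod_eq_zero_iff_dvd]; push_cast; simp only [ZMod.natCast_zmod_val]
  · rw [mul_inv_cancel₀ g.ne_zero, sub_self]
  · rw [← Units.val_pow_eq_pow_val, hm']; simp
  · rw [inv_pow, ← Units.val_pow_eq_pow_val, hm']; simp
  · intro h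
    have : g ^ 2 = 1 := Units.ext (by rw [Units.val_pow_eq_pow_val]; simpa [sub_eq_zero] using h)
    have := Nat.le_of_dvd (by norm_num) (orderOf_dvd_of_pow_eq_one this)
    omega

end torus

section plane
variable {G : Type*} [Group G] [Finite G] {p : ℕ} {W T : Subgroup G}

theorem pi_of_pi'_eq_one {K : Subgroup G} (hp : p.Prime)
    (h : ∀ x ∈ K, PiElt {p}ᶜ x → x = 1) : PiGrp {p} K := by
  refine piGrp_of_forall_elt fun x hx => ?_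
  obtain ⟨y, z, hy, hz, py, pz, e⟩ := exists_piPart {p} x
  rw [h z (zpowers_le.2 hx hz) pz, mul_one] at e
  exact e ▸ py

theorem cent_of_logn_le (hp : p.Prime) {L : Subgroup G} (kL : PiGrp {p} L)
    (l : logn p (♯L) ≤ 1) (k : PiGrp {p} T) (n : T ≤ 𝐍 L) : T ≤ 𝐂 L := by
  by_cases h0 : L = ⊥
  · rw [h0, cent_bot]; exact le_top
  haveI := Fact.mk hp
  have h1 := CF.Coprime.commutator_lt_of_isPGroup kL.isPGroup k.isPGroup n h0
  have h2 := kL.logn_lt h1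
  have h3 : ⁅L, T⁆ = ⊥ := ((kL.le h1.le).logn_eq_zero).1 (by omega)
  exact comm_eq_bot'.1 h3

theorem plane_torus (hp : p.Prime) [hW : W.Normal] (a : Abelem p W) (l2 : logn p (♯W) = 2)
    (k : PiGrp {p} T) (nc : ¬ T ≤ 𝐂 W) : ∃ e ∈ W, e ≠ 1 ∧ T ≤ 𝐂 (zpowers e) ∧
      ⁅T, W⁆ ≤ zpowers e ∧ ((zpowers e).Normal ∨ ∃ f ∈ W, f ∉ zpowers e ∧
        (∀ w ∈ W, ∃ i j : ℤ, w = e ^ i * f ^ j) ∧
        ∀ N : Subgroup G, N.Normal → ∀ u ∈ T, u ∈ N → u ∉ 𝐂 W → ∀ l l' : ℤ,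
          (p : ℤ) ∣ l * l' - 1 → ∃ h ∈ N, h * e * h⁻¹ = e ^ l ∧ h * f * h⁻¹ = f ^ l') := by
  haveI := Fact.mk hp
  have n : ∀ X : Subgroup G, X ≤ 𝐍 W := fun X => by
    rw [normalizer_eq_top]; exact le_top
  have h0 : W ≠ ⊥ := fun h => nc (by rw [h, cent_bot]; exact le_top)
  have h1 := CF.Coprime.commutator_lt_of_isPGroup a.pi.isPGroup k.isPGroup (n T) h0
  have h2 : ⁅W, T⁆ ≠ ⊥ := fun h => nc (comm_eq_bot'.1 h)
  have eL : Elem p 1 ⁅W, T⁆ W := Elem.one_of_lt (H := W) ⟨le_rfl, a, l2⟩ h1 h2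
  obtain ⟨e, e1, eL', he⟩ := eL.exists_gen
  have eW : e ∈ W := eL.le eL'
  have ep := a.pow e eW
  have hc : T ≤ 𝐂 (zpowers e) := by
    rw [he]; exact cent_of_logn_le hp eL.pi eL.log.le k (norm_comm_right W T)
  have hL : ⁅T, W⁆ ≤ zpowers e := by rw [he, Subgroup.commutator_comm]
  have act : ∀ x ∈ T, ∀ w ∈ W, ∃ i : ℤ, x * w * x⁻¹ = e ^ i * w := by
    intro x hx w hw
    obtain ⟨i, hi⟩ := hL (commutator_mem_commutator hx hw)
    exact ⟨i, by rw [show e ^ i = ⁅x, w⁆ from hi, commutatorElement_def]; group⟩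
  have fix : ∀ x ∈ T, x * e * x⁻¹ = e := by
    intro x hx
    rw [← mem_cent.1 (hc hx) e (mem_zpowers e)]; group
  refine ⟨e, eW, e1, hc, hL, ?_⟩
  by_cases hn : (zpowers e).Normal
  · exact Or.inl hn
  right
  obtain ⟨g, hg⟩ : ∃ g : G, g * e * g⁻¹ ∉ zpowers e := by
    by_contra hh
    push Not at hh
    refine hn ⟨fun x hx g => ?_⟩
    obtain ⟨i, rfl⟩ := hx
    simp only
    rw [← conj_zpow]; exact zpow_mem (hh g) i
  set f := g * e * g⁻¹ with hf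
  have fW : f ∈ W := hW.conj_mem e eW g
  have fp := a.pow f fW
  have cm : Commute e f := a.abel.mul_comm eW fW
  have gen : ∀ w ∈ W, ∃ i j : ℤ, w = e ^ i * f ^ j := by
    have lt : zpowers e < zpowers e ⊔ zpowers f :=
      lt_of_le_of_ne le_sup_left fun h => hg (h ▸ mem_sup_right (mem_zpowers f))
    have le : zpowers e ⊔ zpowers f ≤ W := sup_le (zpowers_le.2 eW) (zpowers_le.2 fW)
    have l1 := (a.pi.le le).logn_lt lt
    have l3 : logn p (♯(zpowers e)) = 1 := by rw [he]; exact eL.log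
    have eq := a.pi.eq_of_logn_le le (by omega)
    intro w hw
    rw [← eq, mem_sup_norm ((zpowers_le.2 eW).trans (a.abel.le_norm (zpowers_le.2 fW)))] at hw
    obtain ⟨_, ⟨i, rfl⟩, _, ⟨j, rfl⟩, rfl⟩ := hw
    exact ⟨i, j, rfl⟩
  have cent : ∀ x : G, x * e * x⁻¹ = e → x * f * x⁻¹ = f → x ∈ 𝐂 W := by
    intro x h1 h2
    refine mem_cent.2 fun w hw => ?_
    obtain ⟨i, j, rfl⟩ := gen w hw
    have := conj_pair cm h1 (x := 0) (by simpa using h2) i j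
    simp only [zero_mul, add_zero] at this
    exact (mul_inv_eq_iff_eq_mul.1 this).symm
  refine ⟨f, fW, hg, gen, fun N hN u hu uN unc l l' hl => ?_⟩
  obtain ⟨x, hx⟩ := act u hu f fW
  have hx' : ¬ (p : ℤ) ∣ x := fun h => unc (cent u (fix u hu) (by
    rw [hx, zpow_eq_of_dvd ep (b := 0) (by simpa using h)]; simp))
  obtain ⟨y, hy⟩ := act u hu (g⁻¹ * e * g) (by simpa using hW.conj_mem e eW g⁻¹)
  have v1 : (g * u * g⁻¹) * f * (g * u * g⁻¹)⁻¹ = f := by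
    have : (g * u * g⁻¹) * f * (g * u * g⁻¹)⁻¹ = g * (u * e * u⁻¹) * g⁻¹ := by rw [hf]; group
    rw [this, fix u hu]
  have v2 : (g * u * g⁻¹) * e * (g * u * g⁻¹)⁻¹ = f ^ y * e := by
    have : (g * u * g⁻¹) * e * (g * u * g⁻¹)⁻¹ = g * (u * (g⁻¹ * e * g) * u⁻¹) * g⁻¹ := by group
    rw [this, hy, hf, conj_zpow]; group
  have hy' : ¬ (p : ℤ) ∣ y := fun h => unc (by
    have h1 := cent (g * u * g⁻¹) (by
      rw [v2, zpow_eq_of_dvd fp (b := 0) (by simpa using h)]; simp) v1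
    have h2 := conj_mem_of_norm' (norm_cent (n ⊤) (mem_top g)) h1
    simpa [mul_assoc] using h2)
  refine torus cm ep fp N (fun z => ?_) (fun z => ?_) hl
  · obtain ⟨m, h1, h2⟩ := exists_unip hp cm ep (fix u hu) hx hx' z
    exact ⟨_, pow_mem uN m, h1, h2⟩
  · obtain ⟨m, h1, h2⟩ := exists_unip hp cm.symm fp v1 v2 hy' z
    exact ⟨_, pow_mem (hN.conj_mem u uN g) m, h1, h2⟩

end plane

end CF.FusB
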