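/-
Rank two p-groups, p ≥ 5: groups of characteristic p with Sylow subgroup of rank two.
-/
import Cfsg.Agent.FusB.RkP1

set_option autoImplicit false
set_option linter.unusedSectionVars false

namespace CF.FusB
open Subgroup CF.BG CF.BG2
open scoped commutatorElement

variable {G : Type*} [Group G] [Finite G] {p : ℕ}

theorem cent_of_gen {W : Subgroup G} {e f x : G} (cm : Commute e f)
    (gen : ∀ w ∈ W, ∃ i j : ℤ, w = e ^ i * f ^ j) (h1 : x * e * x⁻¹ = e) (h2 : x * f * x⁻¹ = f) :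
    x ∈ 𝐂 W := by
  refine mem_cent.2 fun w hw => ?_
  obtain ⟨i, j, rfl⟩ := gen w hw
  have := conj_pair cm h1 (x := 0) (by simpa using h2) i j
  simp only [zero_mul, add_zero] at this
  exact (mul_inv_eq_iff_eq_mul.1 this).symm

theorem mem_norm_of_conj {H : Subgroup G} {g : G} (h : ∀ x ∈ H, g * x * g⁻¹ ∈ H) : g ∈ 𝐍 H :=
  mem_norm_of_cj_le fun y hy => by
    obtain ⟨x, hx, rfl⟩ := mem_cj_iff.1 hy
    exact h x hx

theorem normal_of_forall {N : Subgroup G} (h : ∀ X : Subgroup G, X ≤ 𝐍 N) : N.Normal :=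
  normalIn_top.1 ⟨le_top, h ⊤⟩

theorem le_norm_of_normal (N : Subgroup G) [N.Normal] (X : Subgroup G) : X ≤ 𝐍 N := by
  rw [normalizer_eq_top]; exact le_top

theorem eq_one_of_inv (hp : p.Prime) (h2 : p ≠ 2) {w : G} (h : w ^ p = 1) (e : w⁻¹ = w) : w = 1 := by
  by_contra h1
  have := dvd_of_zpow_eq hp h h1 (a := 1) (b := -1) (by simp [e])
  have h3 : p ∣ 2 := by
    rw [show (1 : ℤ) - -1 = ((2 : ℕ) : ℤ) by norm_num] at this; exact_mod_cast this
  exact h2 ((Nat.prime_dvd_prime_iff_eq hp Nat.prime_two).1 h3)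

theorem comm_mem_cent_of_inv {W : Subgroup G} [hW : W.Normal] {t : G}
    (ht : ∀ w ∈ W, t * w * t⁻¹ = w⁻¹) (g : G) : ⁅t, g⁆ ∈ 𝐂 W := by
  refine mem_cent.2 fun w hw => ?_
  have h1 := ht _ (hW.conj_mem w hw g⁻¹)
  have h2 := ht _ (inv_mem hw)
  have h3 : t⁻¹ * (g⁻¹ * w * g) * t = g⁻¹ * w⁻¹ * g := by
    have h4 : g⁻¹ * w * g = t * (g⁻¹ * w⁻¹ * g) * t⁻¹ := by
      have := ht _ (hW.conj_mem _ (inv_mem hw) g⁻¹)
      simp only [inv_inv] at this
      rw [this]; group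
    rw [h4]; group
  have : ⁅t, g⁆ * w * ⁅t, g⁆⁻¹ = t * (g * (t⁻¹ * (g⁻¹ * w * g) * t) * g⁻¹) * t⁻¹ := by
    rw [commutatorElement_def]; group
  rw [h3, show g * (g⁻¹ * w⁻¹ * g) * g⁻¹ = w⁻¹ by group, h2, inv_inv] at this
  exact (mul_inv_eq_iff_eq_mul.1 this).symm

theorem model_rk2 (hp : p.Prime) (h5 : 5 ≤ p) {Q T : Subgroup G} [hQ : Q.Normal]
    (kT : PiGrp {p} T) (mx : ∀ C, T ≤ C → PiGrp {p} C → C = T) (hQT : Q < T) (hC : 𝐂 Q ≤ Q)
    (hO : ∀ N : Subgroup G, N.Normal → PiGrp {p} N → N ≤ Q) (hr : pRank p T ≤ 2)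
    {l l' : ℤ} {m : ℕ} (hl : (p : ℤ) ∣ l * l' - 1) (hm : (p : ℤ) ∣ l ^ m - (-1))
    (hm' : (p : ℤ) ∣ l' ^ m - (-1)) (hl2 : ¬ (p : ℤ) ∣ l ^ 2 - 1) :
    ♯Q = p ^ 2 ∧ ♯T = p ^ 3 ∧ (∀ x ∈ T, x ^ p = 1) ∧ ∃ z ∈ Q, ∃ x ∈ Q, ∃ h ∈ 𝐍 T, z ≠ 1 ∧
      T ≤ 𝐂 (zpowers z) ∧ (∀ q ∈ Q, ∃ i j : ℤ, q = z ^ i * x ^ j) ∧
      h * z * h⁻¹ = z ^ l ∧ h * x * h⁻¹ = x ^ l' := by
  have h3 : 3 < p := by omega
  have h2 : p ≠ 2 := by omega
  have odd : ∀ {K : Subgroup G}, PiGrp {p} K → Odd (♯K) := fun k => by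
    rw [k.card_eq]; exact (hp.odd_of_ne_two h2).pow
  have kQ := kT.le hQT.le
  have nQ := le_norm_of_normal Q
  set D := 𝛀 p Q with hD
  have nD : ∀ X : Subgroup G, X ≤ 𝐍 D := fun X => le_norm_Om p (nQ X)
  haveI := normal_of_forall nD
  have DQ : D ≤ Q := Om_le p Q
  have kD := kQ.le DQ
  have eT := exp_Om_of_pRank_le_two hp h3 kT hr
  have DO : D ≤ 𝛀 p T := Om_mono p hQT.le
  have eD : ∀ x ∈ D, x ^ p = 1 := fun x hx => eT x (DO hx)
  have kO := kT.le (Om_le p T)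
  have lO := logn_le_three_of_exp hp kO (by rwa [pRank_Om]) eT
  set Z := 𝚽 D with hZ
  have nZ : ∀ X : Subgroup G, X ≤ 𝐍 Z := fun X => le_norm_Phi (nD X)
  haveI := normal_of_forall nZ
  have ZD : Z ≤ D := Phi_le D
  have kZ := kD.le ZD
  have f1 : ∀ a, PiElt {p}ᶜ a → ⁅⁅D, zpowers a⁆, zpowers a⁆ ≤ Z → a = 1 := by
    intro a ka h
    have c := ka.zpowers.coprime' kD
    rw [comm_comm_eq (nD _) c (Or.inr kD.sol)] at h
    have h1 := kQ.cent_of_Om (odd kQ) (nQ _) (ka.zpowers.coprime' kQ)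
      (cent_of_comm_le_Phi (nD _) c h)
    exact (kQ.elt (hC (h1 (mem_zpowers a)))).eq_one ka
  set π := QuotientGroup.mk' Z with hπ
  have πs : Function.Surjective π := QuotientGroup.mk'_surjective Z
  have πk : π.ker = Z := QuotientGroup.ker_mk' Z
  set W := D.map π with hW
  haveI : W.Normal := Normal.map inferInstance π πs
  have nW := le_norm_of_normal W
  have aW : Abelem p W := by
    refine Abelem.mk' hp ?_ ?_
    · rw [← der_eq_bot, hW, ← map_commutator, Subgroup.map_eq_bot_iff, πk]; exact kD.der_le_Phi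
    · rintro _ ⟨d, hd, rfl⟩; rw [← map_pow, eD d hd, map_one]
  have lD : logn p (♯D) = logn p (♯Z) + logn p (♯W) := by
    have := relIndex_ker (K := D) π
    rw [πk] at this
    rw [logn_card_eq_add ZD, this]
  have f2 : ∀ L, PiGrp {p} ((𝐂 L ⊓ centMod W L).comap π) := by
    intro L
    refine pi_of_pi'_eq_one hp fun a ha ka => f1 a ka ?_
    rw [← πk, ← Subgroup.map_eq_bot_iff, map_commutator, map_commutator, MonoidHom.map_zpowers, ← hW,
      eq_bot_iff]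
    have h1 : zpowers (π a) ≤ centMod W L := zpowers_le.2 ha.2
    have h2 : ⁅W, zpowers (π a)⁆ ≤ L := by
      rw [Subgroup.commutator_comm]; exact (le_centMod.1 h1).2
    refine (commutator_mono h2 le_rfl).trans (comm_eq_bot'.2 (zpowers_le.2 ha.1)).le
  have CQ : ∀ g, π g ∈ 𝐂 W → g ∈ Q := by
    have h1 := f2 ⊥
    rw [cent_bot, top_inf_eq, centMod_bot] at h1
    haveI : (𝐂 W).Normal := normal_of_forall fun X => norm_cent (nW X)
    exact fun g hg => hO _ inferInstance h1 hg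
  have kT' := kT.map π
  have nc : ¬ T.map π ≤ 𝐂 W := fun h => hQT.not_ge fun g hg => CQ g (h (mem_map_of_mem π hg))
  have l2 : logn p (♯W) = 2 := by
    have h1 : ¬ logn p (♯W) ≤ 1 := fun h => nc (cent_of_logn_le hp aW.pi h kT' (nW _))
    have h4 := logn_card_le (p := p) DO
    by_cases h0 : Z = ⊥
    · have := (kD.Phi_eq_bot.1 h0).logn_le_pRank (DQ.trans hQT.le)
      omega
    · have := kZ.logn_pos.2 h0
      omega
  obtain ⟨e, eW, e1, hc, hL, hcase⟩ := plane_torus hp aW l2 kT' nc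
  have ep := aW.pow e eW
  have TK : (𝐂 (zpowers e) ⊓ centMod W (zpowers e)).comap π = T := by
    refine mx _ ?_ (f2 _)
    rw [← map_le_iff_le_comap]
    exact le_inf hc (le_centMod.2 ⟨norm_of_cent hc, hL⟩)
  rcases hcase with hn | ⟨f, fW, fe, gen, tor⟩
  · haveI : (𝐂 (zpowers e) ⊓ centMod W (zpowers e)).Normal := normal_of_forall fun X =>
      norm_inf (norm_cent (le_norm_of_normal _ X)) (norm_centMod (nW X) (le_norm_of_normal _ X))
    exact absurd (TK ▸ hO _ inferInstance (f2 _)) hQT.not_ge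
  have fp := aW.pow f fW
  have cm : Commute e f := aW.abel.mul_comm eW fW
  have lift : ∀ N : Subgroup G, N.Normal → ∀ u ∈ T, u ∈ N → u ∉ Q → ∃ h ∈ N, PiElt {p}ᶜ h ∧
      π h * e * (π h)⁻¹ = e ^ l ∧ π h * f * (π h)⁻¹ = f ^ l' := by
    intro N hN u hu uN uQ
    obtain ⟨_, ⟨h, hN', rfl⟩, h1, h2⟩ := tor (N.map π) (hN.map π πs) _ (mem_map_of_mem π hu)
      (mem_map_of_mem π uN) (fun h => uQ (CQ u h)) l l' hl
    obtain ⟨k, hk⟩ := exists_pow_pi' hp h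
    refine ⟨_, pow_mem hN' _, hk, ?_, ?_⟩ <;> rw [map_pow]
    exacts [conj_pow_act_p hp ep h1 k, conj_pow_act_p hp fp h2 k]
  have facts : ∀ h : G, PiElt {p}ᶜ h → π h * e * (π h)⁻¹ = e ^ l → π h * f * (π h)⁻¹ = f ^ l' →
      h ∈ 𝐍 T ∧ (∃ r ∈ T ⊓ 𝐂 (zpowers (h ^ m)), r ∉ Q) ∧ D ⊓ 𝐂 (zpowers (h ^ m)) ≤ Z := by
    intro h kh h1 h2'
    have inv : ∀ w ∈ W, π (h ^ m) * w * (π (h ^ m))⁻¹ = w⁻¹ := by
      intro w hw
      obtain ⟨i, j, rfl⟩ := gen w hw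
      have : π (h ^ m) * (e ^ i * f ^ j) * (π (h ^ m))⁻¹ =
          (π h ^ m * e * (π h ^ m)⁻¹) ^ i * (π h ^ m * f * (π h ^ m)⁻¹) ^ j := by
        rw [conj_zpow, conj_zpow, map_pow]; group
      rw [this, conj_pow_act h1, conj_pow_act h2', zpow_eq_of_dvd ep hm, zpow_eq_of_dvd fp hm',
        ← zpow_mul, ← zpow_mul, (cm.zpow_zpow i j).eq, mul_inv_rev, ← zpow_neg, ← zpow_neg]
      simp
    refine ⟨?_, ?_, ?_⟩
    · have hn : zpowers (π h) ≤ 𝐍 (zpowers e) := by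
        refine zpowers_le.2 (mem_norm_of_conj ?_)
        rintro _ ⟨i, rfl⟩
        simp only
        rw [← conj_zpow, h1]; exact zpow_mem (zpow_mem (mem_zpowers e) l) i
      have := norm_inf (norm_cent hn) (norm_centMod (nW _) hn) (mem_zpowers _)
      refine mem_norm_of_conj fun x hx => ?_
      rw [← TK] at hx ⊢
      rw [mem_comap, map_mul, map_mul, map_inv]
      exact conj_mem_of_norm this hx
    · have h4 : zpowers (h ^ m) ≤ centMod T Q := zpowers_le.2 ⟨nQ ⊤ (mem_top _), fun u _ =>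
        CQ _ (by rw [map_commutatorElement]; exact comm_mem_cent_of_inv inv _)⟩
      have h6 := sup_inf_cent_of_comm_le hQT.le (nQ _) ((kh.pow m).zpowers.coprime' kQ)
        (Or.inr kQ.sol) (by rw [Subgroup.commutator_comm]; exact (le_centMod.1 h4).2)
      by_contra hh
      push Not at hh
      exact hQT.not_ge (h6 ▸ sup_le le_rfl hh)
    · rintro d ⟨hd, hd'⟩
      rw [← πk, MonoidHom.mem_ker]
      refine eq_one_of_inv hp h2 (aW.pow _ (mem_map_of_mem π hd)) ?_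
      rw [← inv _ (mem_map_of_mem π hd), ← map_inv, ← map_mul, ← map_mul,
        mem_cent.1 hd' _ (mem_zpowers _), mul_inv_cancel_right]
  obtain ⟨u, hu, uQ⟩ := SetLike.exists_of_lt hQT
  by_cases h0 : Z = ⊥
  · obtain ⟨h, -, kh, h1, h2'⟩ := lift ⊤ inferInstance u hu (mem_top u) uQ
    obtain ⟨hn, ⟨r, hr, rQ⟩, hZ'⟩ := facts h kh h1 h2'
    have R0 : T ⊓ 𝐂 (zpowers (h ^ m)) ≠ ⊥ := fun h => rQ (by rw [h, mem_bot] at hr; rw [hr]; exact one_mem Q)
    obtain ⟨X, hX⟩ := kT.inf_left.exists_elem_one R0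
    obtain ⟨v, v1, vX, -⟩ := hX.exists_gen
    have vp := hX.ab.pow v vX
    have vT := (hX.le vX).1
    have vQ : v ∉ Q := fun h => v1 (by
      have := hZ' ⟨mem_Om h vp, (hX.le vX).2⟩
      rwa [h0, mem_bot] at this)
    have vO : v ∈ 𝛀 p T := mem_Om vT vp
    obtain ⟨h', hN, kh', h1', h2''⟩ := lift (centMod Q D)
      (normal_of_forall fun X => norm_centMod (nQ X) (nD X)) v vT ⟨nD ⊤ (mem_top _), fun q hq =>
        mem_Om (comm_mem_right (nQ ⊤ (mem_top _)) hq)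
          (eT _ (comm_mem_left vO ((Om_normal p T).norm (hQT.le hq))))⟩ vQ
    obtain ⟨-, -, hZ''⟩ := facts h' kh' h1' h2''
    have h6 := sup_inf_cent_of_comm_le DQ (nD _) ((kh'.pow m).zpowers.coprime' kD)
      (Or.inr kD.sol) (by
        rw [Subgroup.commutator_comm]; exact (le_centMod.1 (zpowers_le.2 (pow_mem hN m))).2)
    have h7 : Q ⊓ 𝐂 (zpowers (h' ^ m)) = ⊥ := kQ.inf_left.eq_bot_of_inf_Om inf_le_left
      (eq_bot_iff.2 fun d hd => h0 ▸ hZ'' ⟨hd.2, hd.1.2⟩)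
    rw [h7, sup_bot_eq] at h6
    have aD := kD.Phi_eq_bot.1 h0
    have lZ := kZ.logn_eq_zero.2 h0
    have aQ : Abelem p Q := h6 ▸ aD
    have lQ : logn p (♯Q) = 2 := by rw [← h6]; omega
    have cQ : ♯Q = p ^ 2 := by rw [kQ.card_eq, lQ]
    have i1 := relIndex_cent_elem_two (H := Q) ⟨le_rfl, aQ, lQ⟩ kT (nQ T)
      (fun h => hQT.not_ge (h.trans hC))
    rw [le_antisymm hC aQ.abel] at i1
    have cT : ♯T = p ^ 3 := by rw [← card_mul_relIndex hQT.le, cQ, i1, ← pow_succ]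
    have lT : logn p (♯T) = 3 := by rw [cT, logn_pow hp]
    have lt : Q < 𝛀 p T := lt_of_le_of_ne (h6 ▸ DO) fun h => vQ (h ▸ vO)
    have := kO.logn_lt lt
    have OT := kT.eq_of_logn_le (Om_le p T) (by omega)
    have πi : Function.Injective π := by rw [← MonoidHom.ker_eq_bot_iff, πk, h0]
    obtain ⟨z, hz, rfl⟩ := eW
    obtain ⟨x, hx, rfl⟩ := fW
    refine ⟨cQ, cT, OT ▸ eT, z, DQ hz, x, DQ hx, h, hn, fun h => e1 (by rw [h, map_one]), ?_,
      fun q hq => ?_, πi ?_, πi ?_⟩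
    · rwa [← map_cent_iff πi, MonoidHom.map_zpowers]
    · obtain ⟨i, j, h⟩ := gen _ (mem_map_of_mem π (h6 ▸ hq : q ∈ D))
      exact ⟨i, j, πi (by simpa using h)⟩
    · simpa using h1
    · simpa using h2'
  exfalso
  have lZ := kZ.logn_pos.2 h0
  have OD := kO.eq_of_logn_le DO (by omega)
  have l4 := logn_card_le (p := p) DO
  have TZ := cent_of_logn_le hp kZ (by omega) kT (nZ T)
  obtain ⟨h, hN, kh, h1, h2'⟩ := lift (𝐂 Z) (normal_of_forall fun X => norm_cent (nZ X)) u hu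
    (TZ hu) uQ
  obtain ⟨hn, ⟨r, hr, rQ⟩, hZ'⟩ := facts h kh h1 h2'
  have kR : PiGrp {p} (T ⊓ 𝐂 (zpowers (h ^ m))) := kT.inf_left
  have c1 := kR.cent_of_Om (odd kR) (A := zpowers h) (norm_inf_cent (zpowers_le.2 hn)
    ((abel_zpowers h).le_norm (zpowers_le.2 (pow_mem (mem_zpowers h) m))))
    (kh.zpowers.coprime' kR) (cent_mono (zpowers_le.2 hN) le_rfl (le_trans (le_inf
      ((Om_mono p inf_le_left).trans OD.ge) ((Om_le _ _).trans inf_le_right)) hZ'))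
  have c2 : π r * π h = π h * π r := by
    rw [← map_mul, ← map_mul, mem_cent.1 (c1 (mem_zpowers h)) r hr]
  obtain ⟨c, hc'⟩ := hL (commutator_mem_commutator (mem_map_of_mem π hr.1) fW)
  have a1 : π r * e * (π r)⁻¹ = e := by
    rw [← mem_cent.1 (hc (mem_map_of_mem π hr.1)) e (mem_zpowers e)]; group
  have a2 : π r * f * (π r)⁻¹ = e ^ c * f := by
    rw [show e ^ c = ⁅π r, f⁆ from hc', commutatorElement_def]; group
  have a3 : ¬ (p : ℤ) ∣ c := fun h => rQ (CQ r (cent_of_gen cm gen a1 (by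
    rw [a2, zpow_eq_of_dvd ep (b := 0) (by simpa using h)]; simp)))
  have a4 : π h * (π r * f * (π r)⁻¹) * (π h)⁻¹ = π r * (π h * f * (π h)⁻¹) * (π r)⁻¹ := by
    calc _ = (π h * π r) * f * (π h * π r)⁻¹ := by group
      _ = (π r * π h) * f * (π r * π h)⁻¹ := by rw [c2]
      _ = _ := by group
  have a5 := conj_pair cm a1 a2 0 l'
  rw [zpow_zero, one_mul, zero_add] at a5
  have a6 : π h * (e ^ c * f) * (π h)⁻¹ = (π h * e * (π h)⁻¹) ^ c * (π h * f * (π h)⁻¹) := by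
    rw [conj_zpow]; group
  rw [a2, h2', a5, a6, h1, h2', ← zpow_mul] at a4
  have a7 := dvd_of_zpow_eq hp ep e1 (mul_right_cancel a4)
  rw [show l * c - c * l' = c * (l - l') by ring] at a7
  have a8 := ((Nat.prime_iff_prime_int.1 hp).dvd_or_dvd a7).resolve_left a3
  exact hl2 (by
    rw [show l ^ 2 - 1 = l * l' - 1 + l * (l - l') by ring]; exact dvd_add hl (a8.mul_left l))

end CF.FusB
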