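/-
Rank two p-groups, p ≥ 5: essential subgroups and resistance.
-/
import Cfsg.Agent.FusB.RkP2
import Cfsg.Agent.Fus.Model
import Cfsg.Agent.Fus.Real

set_option autoImplicit false
set_option linter.unusedSectionVars false

namespace CF.FusB
open Subgroup CF.BG CF.BG2
open scoped commutatorElement

section grp
variable {G : Type*} [Group G] [Finite G] {p : ℕ}

theorem over_plane (hp : p.Prime) (h5 : 5 ≤ p) (k : PiGrp {p} (⊤ : Subgroup G))
    (hr : pRank p (⊤ : Subgroup G) ≤ 2) {Q E : Subgroup G} (hE : 𝐍 Q = E) (hC : 𝐂 Q ≤ Q)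
    (cQ : ♯Q = p ^ 2) (cE : ♯E = p ^ 3) (eE : ∀ x ∈ E, x ^ p = 1) {z x : G} (hz : z ∈ Q)
    (hx : x ∈ Q) (z1 : z ≠ 1) (Ez : E ≤ 𝐂 (zpowers z))
    (gen : ∀ q ∈ Q, ∃ i j : ℤ, q = z ^ i * x ^ j) (hne : E ≠ ⊤) :
    E.Normal ∧ (∀ P, E < P → P = ⊤) ∧ ∀ β : G →* G, Function.Injective β → ∀ l l' : ℤ,
      β z = z ^ l → β x = x ^ l' → (p : ℤ) ∣ l * l' - 1 → (p : ℤ) ∣ l ^ 2 - 1 := by
  have h3 : 3 < p := by omega
  have h2 : p ≠ 2 := by omega
  have kk : ∀ X : Subgroup G, PiGrp {p} X := fun X => k.le le_top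
  have lQ : logn p (♯Q) = 2 := by rw [cQ, logn_pow hp]
  have lE : logn p (♯E) = 3 := by rw [cE, logn_pow hp]
  have eO := exp_Om_of_pRank_le_two hp h3 k hr
  have lO := logn_le_three_of_exp hp (kk _) (by rwa [pRank_Om]) eO
  have EO : E = 𝛀 p ⊤ := (kk _).eq_of_logn_le (fun y hy => mem_Om (mem_top y) (eE y hy))
    (by omega)
  have memE : ∀ s, s ^ p = 1 → s ∈ E := fun s hs => EO ▸ mem_Om (mem_top s) hs
  have nE : ∀ X : Subgroup G, X ≤ 𝐍 E := fun X => by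
    rw [EO]; exact le_norm_Om p (by rw [norm_top]; exact le_top)
  haveI := normal_of_forall nE
  have QE : Q ≤ E := hE ▸ le_norm_self Q
  have zp := eE z (QE hz)
  set Z := zpowers z with hZ
  have eZ : Elem p 1 Z Q := elem_zpowers' hp hz zp z1
  have CE : 𝐂 E = Z := by
    have a1 : 𝐂 E ≤ Q := (cent_anti QE).trans hC
    have a2 : 𝐂 E ≠ Q := fun h => by
      have := logn_card_le (p := p) ((cent_symm h.ge).trans hC)
      omega
    have a3 := (kk Q).logn_lt (lt_of_le_of_ne a1 a2)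
    exact ((kk _).eq_of_logn_le (cent_symm Ez) (by rw [eZ.log]; omega)).symm
  have nZ : ∀ X : Subgroup G, X ≤ 𝐍 Z := fun X => CE ▸ norm_cent (nE X)
  haveI := normal_of_forall nZ
  have cZ : ⊤ ≤ 𝐂 Z := cent_of_logn_le hp eZ.pi eZ.log.le k (nZ ⊤)
  have cz : ∀ y ∈ Z, ∀ s, Commute s y := fun y hy s => (mem_cent.1 (cZ (mem_top s)) y hy).symm
  set π := QuotientGroup.mk' Z with hπ
  have πs : Function.Surjective π := QuotientGroup.mk'_surjective Z
  have πk : π.ker = Z := QuotientGroup.ker_mk' Z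
  have πZ : ∀ y, π y = 1 ↔ y ∈ Z := fun y => by rw [← MonoidHom.mem_ker, πk]
  have lmap : ∀ X : Subgroup G, Z ≤ X → logn p (♯X) = 1 + logn p (♯(X.map π)) := by
    intro X hX
    have := relIndex_ker (K := X) π
    rw [πk] at this
    rw [logn_card_eq_add hX, this, eZ.log]
  set W := E.map π with hW
  haveI : W.Normal := Normal.map inferInstance π πs
  have lW : logn p (♯W) = 2 := by have := lmap E (eZ.le.trans QE); rw [← hW] at this; omega
  have kW := (kk E).map π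
  have aW : Abelem p W := ⟨kW, abel_of_logn_le_two kW lW.le, by
    rintro _ ⟨d, hd, rfl⟩; rw [← map_pow, eE d hd, map_one]⟩
  have normQ : ∀ s, ⁅s, x⁆ ∈ Q → s ∈ E := by
    intro s hs
    rw [← hE]
    refine mem_norm_of_conj fun q hq => ?_
    obtain ⟨i, j, rfl⟩ := gen q hq
    have : s * (z ^ i * x ^ j) * s⁻¹ = (s * z * s⁻¹) ^ i * (⁅s, x⁆ * x) ^ j := by
      rw [conj_zpow, commutatorElement_def, show s * x * s⁻¹ * x⁻¹ * x = s * x * s⁻¹ by group,
        conj_zpow]; group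
    rw [this, (cz z (mem_zpowers z) s).eq, mul_inv_cancel_right]
    exact mul_mem (zpow_mem hz i) (zpow_mem (mul_mem hs hx) j)
  have cent : ∀ s, π s ∈ 𝐂 W → s ∈ E := fun s hs => normQ s (eZ.le ((πZ _).1 (by
    rw [map_commutatorElement, commutatorElement_eq_one_iff_mul_comm]
    exact (mem_cent.1 hs _ (mem_map_of_mem π (QE hx))).symm)))
  have tp : (⊤ : Subgroup G).map π = ⊤ := map_top_of_surjective π πs
  have k' : PiGrp {p} (⊤ : Subgroup (G ⧸ Z)) := tp ▸ k.map π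
  have nc : ¬ ⊤ ≤ 𝐂 W := fun h => hne (eq_top_iff.2 fun s _ => cent s (h (mem_top _)))
  have CW : 𝐂 W = W := le_antisymm (fun w hw => by
    obtain ⟨s, rfl⟩ := πs w
    exact mem_map_of_mem π (cent s hw)) aW.abel
  have i1 := relIndex_cent_elem_two (H := W) ⟨le_rfl, aW, lW⟩ k' (le_norm_of_normal W ⊤) nc
  rw [CW] at i1
  have l3 := logn_relIndex_prime hp le_top i1
  have l4 := lmap ⊤ le_top
  rw [tp] at l4
  have mx : ∀ P, E < P → P = ⊤ := fun P hP => k.eq_of_logn_le le_top (by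
    have := (kk P).logn_lt hP; omega)
  refine ⟨inferInstance, mx, fun β βi l l' b1 b2 hl => ?_⟩
  have der := (center_eq_der_of_logn_three k' (by omega)
    fun h => nc (h.trans (cent_anti le_top))).1
  have cc : ∀ a b c : G, Commute (π c) (π ⁅a, b⁆) := fun a b c => by
    have : π ⁅a, b⁆ ∈ 𝐙 (⊤ : Subgroup (G ⧸ Z)) := by
      rw [der, map_commutatorElement]; exact commutator_mem_commutator (mem_top _) (mem_top _)
    exact mem_cent.1 this.2 _ (mem_top _)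
  have cE' : ∀ a b : G, ⁅a, b⁆ ∈ E := fun a b => cent _ (mem_cent.2 fun w _ => by
    obtain ⟨c, rfl⟩ := πs w
    exact cc a b c)
  have dE : ⁅(⊤ : Subgroup G), (⊤ : Subgroup G)⁆ ≤ E := commutator_le.2 fun a _ b _ => cE' a b
  have sm : SmallCl p (⊤ : Subgroup G) := Or.inr ⟨h3, le_trans (by
    rw [← πk, ← Subgroup.map_eq_bot_iff, map_commutator, map_commutator, tp, ← der, comm_eq_bot]
    exact inf_le_right) (cent_symm cZ)⟩
  have pw : ∀ u v : G, (u * v) ^ p = u ^ p * v ^ p := fun u v =>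
    sm.mul_pow_of_der_le hp k (EO ▸ dE) (mem_top u) (mem_top v)
  obtain ⟨s, -, sE⟩ := SetLike.exists_of_lt (lt_top_iff_ne_top.2 hne)
  have sup : E ⊔ zpowers s = ⊤ := mx _ (lt_of_le_of_ne le_sup_left fun h =>
    sE (h ▸ mem_sup_right (mem_zpowers s)))
  obtain ⟨e, he, _, ⟨μ, rfl⟩, hβ⟩ := (mem_sup_norm' (nE _)).1 (sup ▸ mem_top (β s))
  simp only at hβ
  have bZ : ∀ y ∈ Z, β y = y ^ l := by
    rintro _ ⟨i, rfl⟩
    simp only
    rw [map_zpow, b1, ← zpow_mul, ← zpow_mul, mul_comm]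
  have sp1 : s ^ p ≠ 1 := fun h => sE (memE s h)
  have spZ : s ^ p ∈ Z := by
    rw [← CE]
    refine mem_cent.2 fun y hy => ?_
    have := pw (y * s) y⁻¹
    rw [pw y s, eE y hy, eE _ (inv_mem hy), one_mul, mul_one, conj_pow] at this
    exact mul_inv_eq_iff_eq_mul.1 this
  have m1 : (p : ℤ) ∣ l - μ := by
    refine dvd_of_zpow_eq hp (eZ.ab.pow _ spZ) sp1 ?_
    rw [← bZ _ spZ, map_pow, ← hβ, pw, eE e he, one_mul, ← zpow_natCast, ← zpow_natCast,
      ← zpow_mul, ← zpow_mul, mul_comm]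
  set c := ⁅s, x⁆ with hc
  have cQ' : c ∉ Q := fun h => sE (normQ s h)
  have zz : ∀ {H : Type _} [Group H] {a b : H}, Commute a ⁅a, b⁆ → Commute b ⁅a, b⁆ → ∀ i j : ℤ,
      ⁅a ^ i, b ^ j⁆ = ⁅a, b⁆ ^ (i * j) := by
    intro H _ a b h1 h2 i j
    have e1 : a * b * a⁻¹ = ⁅a, b⁆ ^ (1 : ℤ) * b := by rw [zpow_one, commutatorElement_def]; group
    have e2 : ∀ i : ℤ, a ^ i * b * (a ^ i)⁻¹ = ⁅a, b⁆ ^ i * b := by
      intro i
      induction i using Int.induction_on with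
      | zero => simp
      | succ n ih =>
        have := conj_pair h2.symm (g := a) (by rw [h1.eq]; group) e1 n 1
        rw [zpow_one, one_mul] at this
        rw [← this, ← ih, add_comm, zpow_add]; group
      | pred n ih =>
        have := conj_pair h2.symm (g := a) (by rw [h1.eq]; group) e1 (-(n : ℤ) - 1) 1
        rw [zpow_one, one_mul, sub_add_cancel, ← ih] at this
        have h4 : ⁅a, b⁆ ^ (-(n : ℤ) - 1) * b =
            a⁻¹ * (a * (⁅a, b⁆ ^ (-(n : ℤ) - 1) * b) * a⁻¹) * a := by group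
        rw [h4, this]; group
    rw [commutatorElement_def, ← conj_zpow, e2, (h2.symm.zpow_left i).mul_zpow, ← zpow_mul]
    group
  have cmE : ∀ a ∈ E, ∀ b ∈ E, ⁅a, b⁆ ∈ Z := fun a ha b hb => (πZ _).1 (by
    rw [map_commutatorElement, commutatorElement_eq_one_iff_mul_comm]
    exact aW.abel.mul_comm (mem_map_of_mem π ha) (mem_map_of_mem π hb))
  have bc : π (β c) = π (c ^ (μ * l')) := by
    have a1 := cc s x s
    have a2 := cc s x x
    rw [map_commutatorElement] at a1 a2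
    have a3 : Commute (π e) (π x ^ l') := Commute.zpow_right
      (aW.abel.mul_comm (mem_map_of_mem π he) (mem_map_of_mem π (QE hx))) l'
    have a4 := (cc s x e).zpow_right (μ * l')
    rw [hc, map_commutatorElement, ← hβ, b2, map_commutatorElement, map_mul, map_zpow, map_zpow,
      map_zpow, commutatorElement_mul_left_eq_conj_mul, zz a1 a2,
      commutatorElement_eq_one_iff_commute.2 a3, ← map_commutatorElement, a4.eq]
    group
  have dZ : ⁅c, x⁆ ∈ Z := cmE c (cE' s x) x (QE hx)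
  have d1 : ⁅c, x⁆ ≠ 1 := fun h => cQ' (hC (cent_of_gen (cz z (mem_zpowers z) x).symm gen
    (by rw [(cz z (mem_zpowers z) c).eq]; group)
    (by rw [commutatorElement_eq_one_iff_mul_comm.1 h]; group)))
  have m2 : (p : ℤ) ∣ l - μ * l' * l' := by
    refine dvd_of_zpow_eq hp (eZ.ab.pow _ dZ) d1 ?_
    have a1 : β c * (c ^ (μ * l'))⁻¹ ∈ Z := (πZ _).1 (by rw [map_mul, map_inv, bc, mul_inv_cancel])
    have a2 : β c = β c * (c ^ (μ * l'))⁻¹ * c ^ (μ * l') := by group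
    rw [← bZ _ dZ, map_commutatorElement, b2, a2, commutatorElement_mul_left_eq_conj_mul,
      zz (cz _ dZ c) (cz _ dZ x), commutatorElement_eq_one_iff_commute.2 (cz _ a1 _).symm,
      ← (cz _ a1 _).eq]
    group
  have : l ^ 2 - 1 = l * (l - μ * l' * l') - l * l' * l' * (l - μ) +
      (l * l' + 1) * (l * l' - 1) := by ring
  rw [this]
  exact dvd_add (dvd_sub (m2.mul_left _) (m1.mul_left _)) (hl.mul_left _)

end grp

section fus
open CF.Fus Cfsg Cfsg.FusionSystem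
universe u
variable {Ω : Type u} [Group Ω] {S Q : Subgroup Ω} {F : FusionSystem S} {p : ℕ} [hp : Fact p.Prime]

theorem pRank_le_of_forall [Finite S] {n : ℕ}
    (h : ∀ E : Subgroup Ω, E ≤ S → IsElementaryAbelian p E → Nat.card E ≤ p ^ n) :
    pRank p (⊤ : Subgroup S) ≤ n := by
  obtain ⟨A, hA⟩ := exists_elem_pRank p (⊤ : Subgroup S)
  have := h _ (map_subtype_le A) (hA.ab.map S.subtype).isEA
  rw [card_map (subtype_injective S), hA.card] at this
  exact (Nat.pow_le_pow_iff_right hp.out.one_lt).1 this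

/-- the model of the normalizer of a fully normalized, centric, radical subgroup -/
theorem exists_cr_model (hF : Sat F p) (h1 : F.IsFullyNormalized Q) (h2 : F.IsCentric Q)
    (h3 : F.IsRadical p Q) : ∃ (G : Type u) (_ : Group G) (_ : Finite G) (t : Ω → G),
      PIso t (NS S Q) (img t (NS S Q)) ∧ SylIn p (img t (NS S Q)) ⊤ ∧ (img t Q).Normal ∧
      𝐂 (img t Q) ≤ img t Q ∧ (∀ N : Subgroup G, N.Normal → IsPGroup p N → N ≤ img t Q) ∧
      ∀ (g : G) (P : Subgroup Ω), P ≤ NS S Q → (∀ x ∈ P, g * t x * g⁻¹ ∈ img t (NS S Q)) →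
        ∃ f, Mor F P f ∧ ∀ x ∈ P, f x ∈ NS S Q ∧ g * t x * g⁻¹ = t (f x) := by
  have hN := isNS_norF F h2.1
  have hn := hF.nc_norF h1 h2 hN
  obtain ⟨G, _, t, hM⟩ := hn.exists_model
  haveI := hM.fin
  have q := hM.qmod hn
  refine ⟨G, inferInstance, inferInstance, t, q.piso, hM.syl,
    normalIn_top.1 ⟨le_top, q.norm hn.le⟩, fun g hg => q.CS_le hn ⟨mem_top g, hg⟩,
    fun N hN' kN g hg => ?_, fun g P hP e => ?_⟩
  · obtain ⟨s, hs, rfl⟩ := q.piso.surj (hM.syl.le_of_norm le_top kN (le_norm_of_normal N _) hg)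
    obtain ⟨π, πs, -, hπ⟩ := q.exists_hom_aut hn
    refine mem_img_of_mem (mem_of_cA_mem_OpIn h2 h3 hs ?_)
    have e : cA Q s = (π (t s) : MulAut Q) := (cA_eq_iff hs.2).2 fun x hx => q.inj'
      (hn.le (fn_mem _ hx)) (hn.le (Fus.conj_mem_of_norm hs.2 hx))
      (by rw [← hπ _ _ hx, q.mul.map_conj hs (hn.le hx)])
    rw [e, ← isNS_autGroup_self hN h2.1]
    haveI := hN'.map π πs
    exact mem_map_of_mem _ (CF.Solv.le_pCore (kN.map π) (mem_map_of_mem π hg))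
  · obtain ⟨f, hf, e'⟩ := q.exists_mor hn (mem_top g) hP e
    exact ⟨f, hf.sub (isNS_sub hN), fun x hx => ⟨hf.maps hx, e' x hx⟩⟩

theorem ess_rk2 (hF : Sat F p) [Finite S] (h5 : 5 ≤ p) (hr : pRank p (⊤ : Subgroup S) ≤ 2)
    (hQ : F.IsEssential p Q) {l l' : ℤ} {m : ℕ} (hl : (p : ℤ) ∣ l * l' - 1)
    (hm : (p : ℤ) ∣ l ^ m - (-1)) (hm' : (p : ℤ) ∣ l' ^ m - (-1)) (hl2 : ¬ (p : ℤ) ∣ l ^ 2 - 1) :
    ♯Q = p ^ 2 ∧ ♯(NS S Q) = p ^ 3 ∧ (∀ x ∈ NS S Q, x ^ p = 1) ∧ ∃ z ∈ Q, ∃ x ∈ Q, ∃ f,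
      Iso F (NS S Q) (NS S Q) f ∧ z ≠ 1 ∧ NS S Q ≤ 𝐂 (zpowers z) ∧
      (∀ q ∈ Q, ∃ i j : ℤ, q = z ^ i * x ^ j) ∧ f z = z ^ l ∧ f x = x ^ l' := by
  obtain ⟨h1, h2, h3⟩ := hF.ess_or_top_cr (Or.inr hQ)
  obtain ⟨G, _, _, t, ti, syl, hn, hC, hO, hM⟩ := exists_cr_model hF h1 h2 h3
  have QN : Q ≤ NS S Q := le_NS h2.1
  have r : pRank p (img t (NS S Q)) ≤ 2 := by
    rw [pRank_congr p (H' := (NS S Q).subgroupOf S)
      ⟨ti.equiv.symm.trans (subgroupOfEquivOfLe NS_le).symm⟩]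
    exact (pRank_mono p le_top).trans hr
  obtain ⟨a1, a2, a3, z, hz, x, hx, h, hh, z1, a4, a5, a6, a7⟩ := model_rk2 hp.out h5
    (piGrp_of_isPGroup hp.out syl.pg) (fun C h k => syl.max C h le_top k.isPGroup)
    (ti.img_lt_img le_rfl (lt_NS hF.pg (hF.ess_lt hQ))) hC
    (fun N n k => hO N n k.isPGroup) r hl hm hm' hl2
  obtain ⟨z, hz', rfl⟩ := (ti.restrict QN).surj hz
  obtain ⟨x, hx', rfl⟩ := (ti.restrict QN).surj hx
  obtain ⟨f, hf, e⟩ := hM h _ le_rfl fun y hy => Fus.conj_mem_of_norm hh (ti.maps hy)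
  refine ⟨(ti.card_img QN).symm.trans a1, ti.card_eq.trans a2, fun y hy => ?_, z, hz', x, hx', f,
    hf.iso_self fun y hy => (e y hy).1, fun h => z1 (by rw [h, ti.mul.map_one]), fun y hy => ?_,
    fun q hq => ?_, ?_, ?_⟩
  · rw [← ti.eq_one_iff (pow_mem hy p), ti.mul.map_pow hy]; exact a3 _ (ti.maps hy)
  · rw [cent_zpowers, mem_cent1]
    refine ti.inj (mul_mem hy (QN hz')) (mul_mem (QN hz') hy) ?_
    rw [ti.mul.map_mul hy (QN hz'), ti.mul.map_mul (QN hz') hy]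
    exact (mem_cent.1 (a4 (ti.maps hy)) _ (mem_zpowers _)).symm
  · obtain ⟨i, j, h⟩ := a5 _ (mem_img_of_mem hq)
    have b1 := zpow_mem (QN hz') i
    have b2 := zpow_mem (QN hx') j
    refine ⟨i, j, ti.inj (QN hq) (mul_mem b1 b2) ?_⟩
    rw [h, ti.mul.map_mul b1 b2, ti.mul.map_zpow (QN hz'), ti.mul.map_zpow (QN hx')]
  · refine ti.inj (e _ (QN hz')).1 (zpow_mem (QN hz') l) ?_
    rw [← (e _ (QN hz')).2, a6, ti.mul.map_zpow (QN hz')]
  · refine ti.inj (e _ (QN hx')).1 (zpow_mem (QN hx') l') ?_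
    rw [← (e _ (QN hx')).2, a7, ti.mul.map_zpow (QN hx')]

theorem normal_of_rk2 (hF : Sat F p) [Finite S] (h5 : 5 ≤ p) (hr : pRank p (⊤ : Subgroup S) ≤ 2)
    (hE : ¬ (Nat.card S = p ^ 3 ∧ Monoid.exponent S = p)) : F.IsNormal S := by
  refine hF.normal_top_of_no_ess fun Q hQ => ?_
  obtain ⟨l, l', m, hl, hm, hm', hl2⟩ := exists_prim hp.out h5
  obtain ⟨a1, a2, a3, z, hz, x, hx, f, hf, z1, a4, a5, a6, a7⟩ := ess_rk2 hF h5 hr hQ hl hm hm' hl2
  obtain ⟨h1, h2, h3⟩ := hF.ess_or_top_cr (Or.inr hQ)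
  have QS := h2.1
  have QN : Q ≤ NS S Q := le_NS QS
  have hne : NS S Q ≠ S := fun h => hE (by
    rw [h] at a2 a3
    refine ⟨a2, ((Nat.dvd_prime hp.out).1 (Monoid.exponent_dvd_of_forall_pow_eq_one
      fun g => Subtype.ext (a3 g g.2))).resolve_left fun h => z1 ?_⟩
    have := Monoid.pow_exponent_eq_one (⟨z, QS hz⟩ : S)
    rw [h, pow_one] at this
    exact congrArg Subtype.val this)
  obtain ⟨b1, b2, b3⟩ := over_plane hp.out h5 (piGrp_top hp.out hF.pg) hr (Q := Q.subgroupOf S)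
    (E := (NS S Q).subgroupOf S) (by
      rw [← subgroupOf_normalizer_eq QS]; ext y; simp [mem_subgroupOf, mem_NS])
    (fun y hy => centric_CS_le h2 (mem_CS.2 ⟨y.2, fun q hq =>
      congrArg Subtype.val (mem_cent.1 hy ⟨q, QS hq⟩ hq)⟩))
    ((Nat.card_congr (subgroupOfEquivOfLe QS).toEquiv).trans a1)
    ((Nat.card_congr (subgroupOfEquivOfLe NS_le).toEquiv).trans a2)
    (fun y hy => Subtype.ext (a3 y hy)) (z := ⟨z, QS hz⟩) (x := ⟨x, QS hx⟩) hz hx
    (fun h => z1 (congrArg Subtype.val h))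
    (fun y hy => by
      rw [cent_zpowers, mem_cent1]
      exact Subtype.ext (mem_cent.1 (a4 hy) z (mem_zpowers z)).symm)
    (fun q hq => let ⟨i, j, h⟩ := a5 q hq; ⟨i, j, Subtype.ext h⟩)
    (fun h => hne (le_antisymm NS_le (subgroupOf_eq_top.1 h)))
  have hn : S ≤ 𝐍 (NS S Q) := (normal_subgroupOf_iff_le_normalizer NS_le).1 b1
  have ne : ¬ F.IsEssential p (NS S Q) := fun h => by
    have := (ess_rk2 hF h5 hr h hl hm hm' hl2).1
    rw [a2] at this
    exact absurd (Nat.pow_right_injective hp.out.two_le this) (by norm_num)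
  obtain ⟨α, hα, e⟩ := hf.exists_aut
  rw [← hF.HF_eq (fn_of_norm F NS_le hn) (lt_of_le_of_ne NS_le hne) ne] at hα
  obtain ⟨g, hg, e'⟩ : ∃ g, Mor F S g ∧ ∀ y ∈ NS S Q, g y = fn α y := by
    refine HF_induction (C := fun α => ∃ g, Mor F S g ∧ ∀ y ∈ NS S Q, g y = fn α y)
      ⟨id, mor_id F le_rfl, fun y _ => (fn_one y).symm⟩ ?_ ?_ hα
    · rintro α β - - ⟨g, hg, e⟩ ⟨g', hg', e'⟩
      refine ⟨g ∘ g', hg'.comp hg fun y => hg'.maps, fun y hy => ?_⟩
      rw [Function.comp_apply, e' y hy, e _ (fn_mem β hy), fn_mul]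
    · intro α P g hP hg e
      have : P = S := le_antisymm hg.le (subgroupOf_eq_top.1 (b2 _ (lt_of_le_of_ne
        (subgroupOf_mono S hP.le) fun h => hP.ne (by
          have := subgroupOf_inj.1 h
          rwa [inf_of_le_left NS_le, inf_of_le_left hg.le] at this))))
      exact ⟨g, this ▸ hg, e⟩
  refine hl2 (b3 (hg.mul.hom.codRestrict S fun y => hg.maps y.2)
    (fun a b h => Subtype.ext (hg.inj a.2 b.2 (congrArg Subtype.val h))) l l'
    (Subtype.ext ?_) (Subtype.ext ?_) hl)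
  · exact (e' z (QN hz)).trans ((e z (QN hz)).trans a6)
  · exact (e' x (QN hx)).trans ((e x (QN hx)).trans a7)

end fus

end CF.FusB
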